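-- Team project BRA (S4484), package [B1] (helper80): the key numerical-range inequality.
import Cfsg.Agent.Lib.Helper95.BRA.Defs

set_option autoImplicit false

open scoped Matrix ComplexConjugate

namespace Cfsg.Agent.Lib.Helper80.BRA

open Cfsg Cfsg.Agent.Lib.Helper74.Jordan Cfsg.Agent.Lib.Helper95.BRA

theorem nsq_nonneg80 {n : ℕ} (w : Fin n → ℂ) : 0 ≤ nsq w :=
  Finset.sum_nonneg (fun _ _ => Complex.normSq_nonneg _)

theorem nsq_eq_dot80 {n : ℕ} (w : Fin n → ℂ) : star w ⬝ᵥ w = ((nsq w : ℝ) : ℂ) := by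
  unfold nsq dotProduct
  push_cast
  apply Finset.sum_congr rfl
  intro i _
  rw [Complex.normSq_eq_conj_mul_self]
  rfl

theorem nsq_eq_zero80 {n : ℕ} (w : Fin n → ℂ) (h : nsq w = 0) : w = 0 := by
  unfold nsq at h
  funext i
  have h1 := (Finset.sum_eq_zero_iff_of_nonneg (fun i _ => Complex.normSq_nonneg (w i))).mp h i
    (Finset.mem_univ i)
  exact Complex.normSq_eq_zero.mp h1

/-- [B1] the key inequality `‖P w‖ ‖w‖ ≤ |⟨w, A w⟩|` with its equality case. -/
theorem pkgB1 : PkgB1 := by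
  intro n A N j₀ hN hAN hAu hS w
  obtain ⟨hj₀, hP0, hsharp⟩ := hS
  set a : ℕ → ℝ := fun j => nsq (proj A N j *ᵥ w) with ha
  have ha0 : ∀ j, 0 ≤ a j := fun j => nsq_nonneg80 _
  have hfP : ∀ j, j < N → star w ⬝ᵥ (proj A N j *ᵥ w) = ((a j : ℝ) : ℂ) := by
    intro j hj
    have hH := proj_herm hN hAN hAu j
    have hI := proj_idem hN hAN hj
    have h1 : star (proj A N j *ᵥ w) ⬝ᵥ (proj A N j *ᵥ w) = ((a j : ℝ) : ℂ) :=
      nsq_eq_dot80 _
    rw [← h1, Matrix.star_mulVec, ← Matrix.dotProduct_mulVec, Matrix.mulVec_mulVec, hH, hI]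
  have hdec : w = ∑ j ∈ Finset.range N, proj A N j *ᵥ w := by
    rw [← Matrix.sum_mulVec, sum_proj hN A, Matrix.one_mulVec]
  have hsum1 : ((nsq w : ℝ) : ℂ) = ∑ j ∈ Finset.range N, ((a j : ℝ) : ℂ) := by
    have h2 : star w ⬝ᵥ w = ∑ j ∈ Finset.range N, star w ⬝ᵥ (proj A N j *ᵥ w) := by
      rw [← dotProduct_sum, ← hdec]
    rw [← nsq_eq_dot80, h2]
    exact Finset.sum_congr rfl (fun j hj => hfP j (Finset.mem_range.mp hj))
  have hsumS : nsq w = ∑ j ∈ Finset.range N, a j := by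
    exact_mod_cast hsum1
  have hz : star w ⬝ᵥ (A *ᵥ w) = ∑ j ∈ Finset.range N, ev N j * ((a j : ℝ) : ℂ) := by
    have h1 : A *ᵥ w = ∑ j ∈ Finset.range N, ev N j • (proj A N j *ᵥ w) := by
      have h0 : A *ᵥ w = (∑ j ∈ Finset.range N, ev N j • proj A N j) *ᵥ w := by
        rw [← self_eq_sum hN hAN]
      rw [h0, Matrix.sum_mulVec]
      exact Finset.sum_congr rfl (fun j _ => by rw [Matrix.smul_mulVec])
    rw [h1, dotProduct_sum]
    apply Finset.sum_congr rfl
    intro j hj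
    rw [dotProduct_smul, hfP j (Finset.mem_range.mp hj), smul_eq_mul]
  set ε : ℂ := ev N j₀ with hε
  have hεn : Complex.normSq ε = 1 := normSq_ev hN j₀
  set z : ℂ := star w ⬝ᵥ (A *ᵥ w) with hzdef
  have hre : (z * conj ε).re = ∑ j ∈ Finset.range N, (ev N j * conj ε).re * a j := by
    rw [hz, Finset.sum_mul, Complex.re_sum]
    apply Finset.sum_congr rfl
    intro j _
    have h3 : ev N j * ((a j : ℝ) : ℂ) * conj ε = (ev N j * conj ε) * ((a j : ℝ) : ℂ) := by ring
    rw [h3, Complex.re_mul_ofReal]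
  have hterm : ∀ j ∈ Finset.range N,
      (1 / 2 : ℝ) * a j + (if j = j₀ then (1 / 2 : ℝ) * a j else 0) ≤
        (ev N j * conj ε).re * a j := by
    intro j hj
    by_cases hjj : j = j₀
    · rw [if_pos hjj, hjj]
      have h4 : (ev N j₀ * conj ε).re = 1 := by
        rw [← hε, Complex.mul_conj, hεn]
        simp
      rw [h4]
      linarith
    · rw [if_neg hjj, add_zero]
      by_cases hPj : proj A N j = 0
      · have h5 : a j = 0 := by
          simp [ha, hPj, nsq]
        rw [h5]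
        simp
      · have h6 := hsharp j (Finset.mem_range.mp hj) hPj
        nlinarith [ha0 j]
  have hR : (a j₀ + nsq w) / 2 ≤ (z * conj ε).re := by
    rw [hre]
    have h7 := Finset.sum_le_sum hterm
    rw [Finset.sum_add_distrib, ← Finset.mul_sum, Finset.sum_ite_eq',
      if_pos (Finset.mem_range.mpr hj₀), ← hsumS] at h7
    linarith
  have hzn : Complex.normSq (z * conj ε) = Complex.normSq z := by
    rw [Complex.normSq_mul, Complex.normSq_conj, hεn, mul_one]
  have hRsq : (z * conj ε).re ^ 2 ≤ Complex.normSq z := by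
    rw [← hzn, Complex.normSq_apply]
    nlinarith [mul_self_nonneg (z * conj ε).im]
  have hS0 : 0 ≤ nsq w := nsq_nonneg80 w
  have hA0 : 0 ≤ a j₀ := ha0 j₀
  have hmid : ((a j₀ + nsq w) / 2) ^ 2 ≤ Complex.normSq z := by
    have h8 : ((a j₀ + nsq w) / 2) ^ 2 ≤ (z * conj ε).re ^ 2 :=
      pow_le_pow_left₀ (by linarith) hR 2
    linarith
  refine ⟨?_, ?_, ?_⟩
  · show a j₀ * nsq w ≤ Complex.normSq z
    nlinarith [sq_nonneg (a j₀ - nsq w)]
  · intro heq
    have heq' : a j₀ * nsq w = Complex.normSq z := heq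
    have h9 : a j₀ = nsq w := by
      have h10 : (a j₀ - nsq w) ^ 2 ≤ 0 := by nlinarith
      have h11 : (a j₀ - nsq w) ^ 2 = 0 := le_antisymm h10 (sq_nonneg _)
      have h12 : a j₀ - nsq w = 0 := pow_eq_zero_iff (by norm_num) |>.mp h11
      linarith
    have h13 : ∑ j ∈ (Finset.range N).erase j₀, a j = 0 := by
      have h14 := Finset.add_sum_erase (Finset.range N) a (Finset.mem_range.mpr hj₀)
      linarith
    have h15 := (Finset.sum_eq_zero_iff_of_nonneg (fun j _ => ha0 j)).mp h13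
    have h16 : ∑ j ∈ Finset.range N, proj A N j *ᵥ w = proj A N j₀ *ᵥ w := by
      apply Finset.sum_eq_single j₀
      · intro j hj hjj
        exact nsq_eq_zero80 _ (h15 j (Finset.mem_erase.mpr ⟨hjj, hj⟩))
      · intro h
        exact absurd (Finset.mem_range.mpr hj₀) h
    rw [← h16, ← hdec]
  · intro hw hz0
    have h17 : 0 < nsq w := by
      rcases (nsq_nonneg80 w).lt_or_eq with h | h
      · exact h
      · exact absurd (nsq_eq_zero80 w h.symm) hw
    have h18 : (z * conj ε).re = 0 := by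
      have : z = 0 := hz0
      rw [this, zero_mul]
      rfl
    linarith

end Cfsg.Agent.Lib.Helper80.BRA
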